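import Mathlib

set_option autoImplicit false

/-!
In a primitive irreducible solvable linear group every non-identity element fixes a subspace of
dimension at most three quarters of the whole.
-/

namespace CfsgLib.PrimitiveSolvable

open Module

variable {F V : Type*} [Field F] [AddCommGroup V] [Module F V] [FiniteDimensional F V] [Finite V]
  {H : Type*} [Group H] [Finite H] (ρ : H →* Module.End F V)

theorem apply_inv_apply (h : H) (v : V) : ρ h (ρ h⁻¹ v) = v := by
  rw [← Module.End.mul_apply, ← map_mul, mul_inv_cancel, map_one, Module.End.one_apply]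

theorem inv_apply_apply (h : H) (v : V) : ρ h⁻¹ (ρ h v) = v := by
  rw [← Module.End.mul_apply, ← map_mul, inv_mul_cancel, map_one, Module.End.one_apply]

/-- Commuting nilpotent maps have a common zero. -/
theorem exists_common_zero [Nontrivial V] {ι : Type*} (y : ι → Module.End F V)
    (hy : ∀ i, IsNilpotent (y i)) (hc : ∀ i j, Commute (y i) (y j)) (s : Finset ι) :
    ∃ v : V, v ≠ 0 ∧ ∀ i ∈ s, y i v = 0 := by
  classical
  induction s using Finset.induction with
  | empty => obtain ⟨v, hv⟩ := exists_ne (0 : V); exact ⟨v, hv, by simp⟩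
  | insert i s _ ih =>
    obtain ⟨v, hv, hs⟩ := ih
    obtain ⟨N, hN⟩ := hy i
    have hex : ∃ k, (y i ^ k) v = 0 := ⟨N, by rw [hN]; rfl⟩
    have h0 := Nat.find_spec hex
    rcases Nat.eq_zero_or_eq_succ_pred (Nat.find hex) with hz | hz
    · rw [hz, pow_zero] at h0; exact absurd h0 hv
    refine ⟨(y i ^ (Nat.find hex).pred) v, Nat.find_min hex (by omega), fun j hj => ?_⟩
    rcases Finset.mem_insert.1 hj with rfl | hj
    · rw [← Module.End.mul_apply, ← pow_succ', ← Nat.succ_eq_add_one, ← hz]; exact h0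
    · rw [← Module.End.mul_apply, ((hc j i).pow_right _).eq, Module.End.mul_apply, hs j hj, map_zero]

/-- An element of an abelian normal subgroup of an irreducible primitive group has no fixed point. -/
theorem fixed_point_free
    (hinj : Function.Injective ρ)
    (hirr : ∀ U : Submodule F V, (∀ h, ∀ v ∈ U, ρ h v ∈ U) → U = ⊥ ∨ U = ⊤)
    (hprim : ∀ (t m : ℕ) (D : Fin t → Submodule F V), 2 ≤ t → 0 < m → (∀ i, finrank F (D i) = m) →
      iSupIndep D → iSup D = ⊤ → (∀ h, ∃ σ : Equiv.Perm (Fin t), ∀ i, (D i).map (ρ h) = D (σ i)) → False)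
    (A : Subgroup H) [A.Normal] (hA : ∀ x ∈ A, ∀ y ∈ A, x * y = y * x)
    {a : H} (ha : a ∈ A) (ha1 : a ≠ 1) {v : V} (hv : ρ a v = v) : v = 0 := by
  classical
  by_contra hv0
  have : Nontrivial V := ⟨⟨v, 0, hv0⟩⟩
  have : Finite (Module.End F V) := Finite.of_injective _ DFunLike.coe_injective
  have := Fintype.ofFinite H
  obtain ⟨N, hN0, hN⟩ : ∃ N, 0 < N ∧ IsIdempotentElem ((ρ a - 1) ^ N) := by
    obtain ⟨i, j, hij, he⟩ := Finite.exists_ne_map_eq_of_infinite fun k : ℕ => (ρ a - 1) ^ (k + 1)
    wlog hlt : i < j generalizing i j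
    · exact this j i hij.symm he.symm (lt_of_le_of_ne (not_lt.1 hlt) hij.symm)
    generalize hy : (ρ a - 1) = y at he ⊢
    have hper : ∀ m ≥ i + 1, ∀ q, y ^ (m + q * (j - i)) = y ^ m := by
      intro m hm q
      induction q with
      | zero => simp
      | succ q ih =>
        have : m + (q + 1) * (j - i) = (m + q * (j - i) - (i + 1)) + (j + 1) := by
          rw [add_mul, one_mul]; omega
        rw [this, pow_add, ← he, ← pow_add]
        rwa [Nat.sub_add_cancel (by omega)]
    have hd : 0 < j - i := by omega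
    have hle : i + 1 ≤ (i + 1) * (j - i) := Nat.le_mul_of_pos_right _ hd
    refine ⟨(i + 1) * (j - i), by omega, ?_⟩
    rw [IsIdempotentElem, ← pow_add]
    exact hper _ hle (i + 1)
  let c : H → H := fun h => h * a * h⁻¹
  have hcA : ∀ h, c h ∈ A := fun h => ‹A.Normal›.conj_mem a ha h
  let gens : Set (Module.End F V) := Set.range fun h => ρ (c h)
  let R : Subalgebra F (Module.End F V) := Algebra.adjoin F gens
  letI : CommRing R := Algebra.adjoinCommRingOfComm F (by
    rintro _ ⟨h, rfl⟩ _ ⟨k, rfl⟩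
    simp only [← map_mul]
    rw [hA _ (hcA h) _ (hcA k)])
  let e : H → R := fun h => (⟨ρ (c h), Algebra.subset_adjoin ⟨h, rfl⟩⟩ - 1) ^ N
  have he : ∀ h, ((e h : R) : Module.End F V) = (ρ (c h) - 1) ^ N := fun h => rfl
  -- conjugation
  let u : H → (Module.End F V)ˣ := fun h => (ρ.toHomUnits h)
  let γ : H → (Module.End F V →ₐ[F] Module.End F V) := fun h =>
    { toFun := fun f => ρ h * f * ρ h⁻¹
      map_one' := by rw [mul_one, ← map_mul, mul_inv_cancel, map_one]
      map_mul' := fun f g => by
        calc ρ h * (f * g) * ρ h⁻¹ = ρ h * f * (ρ h⁻¹ * ρ h) * g * ρ h⁻¹ := by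
              rw [← map_mul, inv_mul_cancel, map_one, mul_one]; simp only [mul_assoc]
          _ = _ := by simp only [mul_assoc]
      map_zero' := by simp
      map_add' := fun f g => by rw [mul_add, add_mul]
      commutes' := fun r => by
        show ρ h * algebraMap F (Module.End F V) r * ρ h⁻¹ = _
        rw [← Algebra.commutes, mul_assoc, ← map_mul, mul_inv_cancel, map_one, mul_one] }
  have hγc : ∀ h k, γ h (ρ (c k)) = ρ (c (h * k)) := fun h k => by
    show ρ h * ρ (c k) * ρ h⁻¹ = _
    rw [← map_mul, ← map_mul]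
    simp only [c]
    group
  have hγR : ∀ h, ∀ x : R, γ h x ∈ R := fun h x => by
    have hm : (R.map (γ h)) ≤ R := by
      rw [show R.map (γ h) = Algebra.adjoin F (γ h '' gens) from AlgHom.map_adjoin _ _]
      refine Algebra.adjoin_le ?_
      rintro _ ⟨_, ⟨k, rfl⟩, rfl⟩
      rw [hγc]
      exact Algebra.subset_adjoin ⟨h * k, rfl⟩
    exact hm ⟨x, x.2, rfl⟩
  let φ : H → (R →ₐ[F] R) := fun h => ((γ h).comp R.val).codRestrict R (hγR h)
  have hφe : ∀ h k, φ h (e k) = e (h * k) := fun h k => Subtype.ext (by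
    show γ h ((e k : R) : Module.End F V) = _
    rw [he, map_pow, map_sub, map_one, hγc, he])
  have hidem : ∀ h, IsIdempotentElem (e h) := fun h => by
    have h1 : IsIdempotentElem (e 1) := by
      refine Subtype.ext ?_
      show (e 1 : Module.End F V) * e 1 = e 1
      simpa [he, c] using hN.eq
    have := h1.map (φ h)
    rwa [hφe, mul_one] at this
  let P : Finset H → R := fun S => (∏ h ∈ S, e h) * ∏ h ∈ Finset.univ \ S, (1 - e h)
  have hPsum : ∑ S ∈ (Finset.univ : Finset H).powerset, P S = 1 := by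
    have := Finset.prod_add e (fun h => 1 - e h) Finset.univ
    simpa [P] using this.symm
  have hPe : ∀ S h, e h * P S = if h ∈ S then P S else 0 := fun S h => by
    split_ifs with hS
    · simp only [P]
      rw [← Finset.mul_prod_erase S e hS, ← mul_assoc, ← mul_assoc, (hidem h).eq]
    · simp only [P]
      rw [← Finset.mul_prod_erase (Finset.univ \ S) (fun k => 1 - e k)
        (Finset.mem_sdiff.2 ⟨Finset.mem_univ h, hS⟩)]
      calc _ = (e h * (1 - e h)) * ((∏ k ∈ S, e k) * ∏ k ∈ (Finset.univ \ S).erase h, (1 - e k)) := by ring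
        _ = 0 := by rw [(hidem h).mul_one_sub_self, zero_mul]
  have hPorth : ∀ S T, S ≠ T → P S * P T = 0 := fun S T hST => by
    obtain ⟨h, hh⟩ : ∃ h, ¬ (h ∈ S ↔ h ∈ T) := by
      by_contra hc; push_neg at hc; exact hST (Finset.ext hc)
    have h1 := hPe S h
    have h2 := hPe T h
    by_cases hS : h ∈ S
    · rw [if_pos hS] at h1
      rw [if_neg fun hT => hh ⟨fun _ => hT, fun _ => hS⟩] at h2
      rw [← h1, mul_right_comm, mul_comm, h2, mul_zero]
    · have hT : h ∈ T := by by_contra hT; exact hh ⟨fun x => absurd x hS, fun x => absurd x hT⟩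
      rw [if_neg hS] at h1
      rw [if_pos hT] at h2
      rw [← h2, ← mul_assoc, mul_comm (P S), h1, zero_mul]
  have hPidem : ∀ S, P S * P S = P S := fun S => by
    have : P S * 1 = P S := mul_one _
    rw [← hPsum, Finset.mul_sum, Finset.sum_eq_single S (fun T _ hT => hPorth S T hT.symm)
      (fun hS => absurd (Finset.mem_powerset.2 (Finset.subset_univ S)) hS)] at this
    exact this
  let σ : H → Finset H → Finset H := fun h S => S.map (Equiv.mulLeft h).toEmbedding
  have hφP : ∀ h S, φ h (P S) = P (σ h S) := fun h S => by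
    have hcompl : Finset.univ \ σ h S = σ h (Finset.univ \ S) := by
      simp only [σ]; rw [Finset.map_sdiff, Finset.map_univ_equiv]
    simp only [P]
    rw [hcompl]
    simp only [σ, Finset.prod_map, Equiv.coe_toEmbedding, Equiv.coe_mulLeft]
    rw [map_mul, map_prod, map_prod]
    simp only [map_sub, map_one, hφe]
  let W : Finset H → Submodule F V := fun S => LinearMap.range (P S : Module.End F V)
  have hcommP : ∀ h S w, ρ h ((P S : Module.End F V) w) = (P (σ h S) : Module.End F V) (ρ h w) := fun h S w => by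
    rw [← hφP]
    show _ = (ρ h * (P S : Module.End F V) * ρ h⁻¹) (ρ h w)
    rw [Module.End.mul_apply, Module.End.mul_apply, inv_apply_apply]
  have hWmap : ∀ h S, (W S).map (ρ h) = W (σ h S) := fun h S => by
    apply le_antisymm
    · rintro _ ⟨_, ⟨w, rfl⟩, rfl⟩; exact ⟨_, (hcommP h S w).symm⟩
    · rintro _ ⟨w, rfl⟩
      exact ⟨_, ⟨ρ h⁻¹ w, rfl⟩, by rw [hcommP, apply_inv_apply]⟩
  have hWfix : ∀ S, ∀ w ∈ W S, (P S : Module.End F V) w = w := by
    rintro S _ ⟨w, rfl⟩
    rw [← Module.End.mul_apply, ← Subalgebra.coe_mul, hPidem]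
  have hWkill : ∀ S T, S ≠ T → ∀ w ∈ W T, (P S : Module.End F V) w = 0 := by
    rintro S T h _ ⟨w, rfl⟩
    rw [← Module.End.mul_apply, ← Subalgebra.coe_mul, hPorth S T h]; rfl
  have htop : ∀ w, w ∈ ⨆ S, W S := fun w => by
    have := congrArg (fun x : R => (x : Module.End F V) w) hPsum
    simp only [AddSubmonoidClass.coe_finset_sum, LinearMap.sum_apply] at this
    rw [show ((1 : R) : Module.End F V) w = w from rfl] at this
    rw [← this]
    exact Submodule.sum_mem _ fun S _ => Submodule.mem_iSup_of_mem S ⟨w, rfl⟩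
  obtain ⟨S0, hS0⟩ : ∃ S, W S ≠ ⊥ := by
    by_contra hc; push_neg at hc
    have := htop v
    simp only [hc, iSup_bot, Submodule.mem_bot] at this
    exact hv0 this
  have horb : ∀ T, W T ≠ ⊥ → ∃ h, σ h S0 = T := by
    intro T hT
    by_contra hc; push_neg at hc
    rcases hirr (⨆ h, W (σ h S0)) (fun k w hw => by
      have : (⨆ h, W (σ h S0)).map (ρ k) ≤ ⨆ h, W (σ h S0) := by
        rw [Submodule.map_iSup]
        refine iSup_le fun h => ?_
        rw [hWmap]
        refine le_iSup_of_le (k * h) (le_of_eq ?_)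
        simp only [σ, Finset.map_map]
        congr 1
        apply congrArg (fun f => S0.map f)
        ext x; simp [mul_assoc]
      exact this ⟨w, hw, rfl⟩) with h | h
    · rw [iSup_eq_bot] at h
      have := h 1
      rw [show σ 1 S0 = S0 from by ext x; simp [σ, show (1 : Equiv.Perm H).symm = 1 from rfl]] at this
      exact hS0 this
    · refine hT ((Submodule.eq_bot_iff _).2 fun w hw => ?_)
      rw [← hWfix T w hw]
      have hle : ⨆ h, W (σ h S0) ≤ LinearMap.ker (P T : Module.End F V) :=
        iSup_le fun h x hx => hWkill T _ (fun e => hc h e.symm) x hx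
      rw [h] at hle
      exact hle (Submodule.mem_top : w ∈ ⊤)
  let ι := {S : Finset H // W S ≠ ⊥}
  have : Nonempty ι := ⟨⟨S0, hS0⟩⟩
  let E : Fin (Nat.card ι) ≃ ι := (Finite.equivFin ι).symm
  have hσne : ∀ h (S : ι), W (σ h S.1) ≠ ⊥ := fun h S hb => S.2 ((Submodule.eq_bot_iff _).2 fun w hw => by
    have : ρ h w ∈ W (σ h S.1) := hWmap h S.1 ▸ ⟨w, hw, rfl⟩
    rw [hb, Submodule.mem_bot] at this
    rw [← inv_apply_apply ρ h w, this, map_zero])
  by_cases h2 : 2 ≤ Nat.card ι
  · have hrank : ∀ i, finrank F (W (E i).1) = finrank F (W S0) := fun i => by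
      obtain ⟨h, hh⟩ := horb _ (E i).2
      rw [← hh, ← hWmap]
      exact (Submodule.equivMapOfInjective (ρ h) (fun x y e => by
        simpa [inv_apply_apply] using congrArg (ρ h⁻¹) e) (W S0)).finrank_eq.symm
    refine hprim (Nat.card ι) (finrank F (W S0)) (fun i => W (E i).1) h2
      (Nat.pos_of_ne_zero fun h => hS0 (Submodule.finrank_eq_zero.1 h)) hrank ?_ ?_ fun h => ?_
    · intro i
      rw [Submodule.disjoint_def]
      intro x hx hsup
      rw [← hWfix _ x hx]
      have hle : (⨆ (j) (_ : j ≠ i), W (E j).1) ≤ LinearMap.ker (P (E i).1 : Module.End F V) :=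
        iSup₂_le fun j hj y hy => hWkill _ _ (fun e => hj (E.injective (Subtype.ext e.symm))) y hy
      exact hle hsup
    · refine eq_top_iff.2 fun w _ => ?_
      have hle : (⨆ S, W S) ≤ ⨆ i, W (E i).1 := iSup_le fun S => by
        by_cases hS : W S = ⊥
        · rw [hS]; exact bot_le
        · exact le_iSup_of_le (E.symm ⟨S, hS⟩) (by rw [Equiv.apply_symm_apply])
      exact hle (htop w)
    · let f : ι → ι := fun S => ⟨σ h S.1, hσne h S⟩
      have hf : Function.Injective f := fun S T e =>
        Subtype.ext (Finset.map_injective _ (congrArg Subtype.val e))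
      refine ⟨E.trans ((Equiv.ofBijective f (Finite.injective_iff_bijective.1 hf)).trans E.symm), fun i => ?_⟩
      simp only [Equiv.trans_apply, Equiv.apply_symm_apply]
      exact hWmap h _
  · have : Subsingleton ι := Finite.card_le_one_iff_subsingleton.1 (by omega)
    have hP0 : P S0 = 1 := by
      rw [← hPsum, Finset.sum_eq_single S0]
      · intro T _ hT
        have hb : W T = ⊥ := by
          by_contra hb
          exact hT (congrArg Subtype.val (Subsingleton.elim (⟨T, hb⟩ : ι) ⟨S0, hS0⟩))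
        exact Subtype.ext (LinearMap.range_eq_bot.1 hb)
      · exact fun h => absurd (Finset.mem_powerset.2 (Finset.subset_univ S0)) h
    have hev : ∀ h, e h = if h ∈ S0 then 1 else 0 := fun h => by
      have := hPe S0 h
      rw [hP0, mul_one] at this
      exact this
    have hkill : ∀ h, (((ρ (c h) - 1) ^ N : Module.End F V)) = 0 ∨ ((ρ (c h) - 1) ^ N : Module.End F V) = 1 := fun h => by
      rw [← he, hev]; split_ifs
      · exact Or.inr rfl
      · exact Or.inl rfl
    have h1 : ((ρ (c 1) - 1) ^ N : Module.End F V) = 0 := by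
      refine (hkill 1).resolve_right fun h => hv0 ?_
      have := congrArg (fun f : Module.End F V => f v) h
      obtain ⟨M, rfl⟩ := Nat.exists_eq_succ_of_ne_zero hN0.ne'
      simpa [pow_succ, c, hv] using this.symm
    have hnil : ∀ h, IsNilpotent (ρ (c h) - 1) := fun h => ⟨N, by
      have := congrArg (γ h) h1
      rwa [map_pow, map_sub, map_one, hγc, map_zero, mul_one] at this⟩
    obtain ⟨w, hw0, hw⟩ := exists_common_zero (fun h => ρ (c h) - 1) hnil (fun i j => by
      have : Commute (ρ (c i)) (ρ (c j)) := (show Commute (c i) (c j) from hA _ (hcA i) _ (hcA j)).map ρ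
      exact ((this.sub_left (Commute.one_left _)).sub_right (Commute.one_right _))) Finset.univ
    have hU : (⨅ h, LinearMap.ker (ρ (c h) - 1)) = (⊤ : Submodule F V) := by
      refine (hirr _ fun k x hx => ?_).resolve_left fun h => hw0 ?_
      · simp only [Submodule.mem_iInf, LinearMap.mem_ker, LinearMap.sub_apply, Module.End.one_apply,
          sub_eq_zero] at hx ⊢
        intro h
        have := congrArg (ρ k) (hx (k⁻¹ * h))
        rw [← Module.End.mul_apply, ← map_mul] at this
        rw [← Module.End.mul_apply, ← map_mul]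
        convert this using 3
        simp only [c]; group
      · rw [← Submodule.mem_bot (R := F), ← h, Submodule.mem_iInf]
        exact fun i => hw i (Finset.mem_univ i)
    apply ha1
    apply hinj
    rw [map_one]
    refine LinearMap.ext fun x => ?_
    have hx : x ∈ ⨅ h, LinearMap.ker (ρ (c h) - 1) := by rw [hU]; trivial
    simpa [c, sub_eq_zero] using (Submodule.mem_iInf _).1 hx 1

open scoped commutatorElement

theorem fix_commutator (x y : H) :
    2 * finrank F (Module.End.eigenspace (ρ x) 1) ≤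
      finrank F V + finrank F (Module.End.eigenspace (ρ ⁅x, y⁆) 1) := by
  let U := Module.End.eigenspace (ρ x) (1 : F)
  have hinj : Function.Injective (ρ y) := fun a b e => by
    simpa [inv_apply_apply] using congrArg (ρ y⁻¹) e
  have h1 : finrank F (U.map (ρ y)) = finrank F U :=
    (Submodule.equivMapOfInjective _ hinj U).finrank_eq.symm
  have hle : U ⊓ U.map (ρ y) ≤ Module.End.eigenspace (ρ ⁅x, y⁆) (1 : F) := by
    rintro w ⟨hw, u, hu, rfl⟩
    simp only [SetLike.mem_coe, U, Module.End.mem_eigenspace_iff, one_smul] at hw hu ⊢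
    rw [commutatorElement_def, map_mul, map_mul, map_mul, Module.End.mul_apply, Module.End.mul_apply,
      Module.End.mul_apply, inv_apply_apply]
    have : ρ x⁻¹ u = u := by
      conv_lhs => rw [← hu]
      rw [inv_apply_apply]
    rw [this, hw]
  have h2 := Submodule.finrank_sup_add_finrank_inf_eq U (U.map (ρ y))
  have h3 := Submodule.finrank_mono hle
  have h4 := Submodule.finrank_le (U ⊔ U.map (ρ y))
  show 2 * finrank F U ≤ _
  omega

theorem fixed_space_bound [hsol : Group.IsSolvable H]
    (hff : ∀ A : Subgroup H, A.Normal → (∀ x ∈ A, ∀ y ∈ A, x * y = y * x) →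
      ∀ a ∈ A, a ≠ 1 → Module.End.eigenspace (ρ a) (1 : F) = ⊥)
    {g : H} (hg : g ≠ 1) : 4 * finrank F (Module.End.eigenspace (ρ g) (1 : F)) ≤ 3 * finrank F V := by
  classical
  by_contra hlt
  let d : H → ℕ := fun x => finrank F (Module.End.eigenspace (ρ x) (1 : F))
  have hd : ∀ x y, 2 * d x ≤ finrank F V + d ⁅x, y⁆ := fix_commutator ρ
  have hdg : 3 * finrank F V < 4 * d g := not_le.1 hlt
  let Q : Subgroup H → Prop := fun A => A.Normal ∧ ∀ x ∈ A, ∀ y ∈ A, x * y = y * x
  obtain ⟨A, -, hAmax⟩ := Finite.exists_le_maximal (p := Q) (a := ⊥)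
    ⟨inferInstance, fun x hx y hy => by rw [Subgroup.mem_bot] at hx hy; rw [hx, hy]⟩
  have hAn : A.Normal := hAmax.1.1
  have hd0 : ∀ a ∈ A, a ≠ 1 → d a = 0 := fun a ha ha1 => by
    simp only [d]; rw [hff A hAn hAmax.1.2 a ha ha1]; exact finrank_bot F V
  let 𝔈 : Set (Subgroup H) :=
    {E | E.Normal ∧ A ≤ E ∧ E ≤ Subgroup.centralizer (A : Set H) ∧ ∀ x ∈ E, ∀ y ∈ E, ⁅x, y⁆ ∈ A}
  let D : Subgroup H := Subgroup.centralizer (A : Set H) ⊓ ⨅ E ∈ 𝔈, Subgroup.centralizer (E : Set H)
  have comm1 : ∀ x y : H, ⁅x, y⁆ = 1 → y * x = x * y := fun x y h =>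
    (commutatorElement_eq_one_iff_mul_comm.1 h).symm
  have hgA : g ∈ Subgroup.centralizer (A : Set H) := by
    rw [Subgroup.mem_centralizer_iff]
    intro a ha
    refine comm1 g a ?_
    by_contra h
    have hm : ⁅g, a⁆ ∈ A := by
      rw [commutatorElement_def]; exact A.mul_mem (hAn.conj_mem a ha g) (A.inv_mem ha)
    have := hd g a
    rw [hd0 _ hm h] at this
    omega
  have hgD : g ∈ D := by
    refine Subgroup.mem_inf.2 ⟨hgA, ?_⟩
    simp only [Subgroup.mem_iInf]
    rintro E ⟨hEn, hAE, hEC, hEE⟩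
    rw [Subgroup.mem_centralizer_iff]
    intro y hy
    refine comm1 g y ?_
    by_contra h
    have hm : ⁅g, y⁆ ∈ E := by
      rw [commutatorElement_def]; exact E.mul_mem (hEn.conj_mem y hy g) (E.inv_mem hy)
    have h1 := hd g y
    by_cases hmA : ⁅g, y⁆ ∈ A
    · rw [hd0 _ hmA h] at h1; omega
    apply hmA
    let Z : Subgroup H := E ⊓ Subgroup.centralizer (E : Set H)
    have hZn : Z.Normal := by
      have := hEn
      infer_instance
    have hAZ : A ≤ Z := fun a ha => ⟨hAE ha, Subgroup.mem_centralizer_iff.2 fun b hb =>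
      ((Subgroup.mem_centralizer_iff.1 (hEC hb)) a ha).symm⟩
    refine hAmax.2 (y := Z) ⟨hZn, fun a ha b hb => Subgroup.mem_centralizer_iff.1 hb.2 a ha.1⟩ hAZ
      ⟨hm, Subgroup.mem_centralizer_iff.2 fun z hz => comm1 _ z ?_⟩
    by_contra hz1
    have h2 := hd ⁅g, y⁆ z
    rw [hd0 _ (hEE _ hm _ hz) hz1] at h2
    omega
  have hgnA : g ∉ A := fun h => by have := hd0 g h hg; omega
  have hDn : D.Normal := by
    have : (Subgroup.centralizer (A : Set H)).Normal := inferInstance
    have : (⨅ E ∈ 𝔈, Subgroup.centralizer (E : Set H)).Normal :=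
      Subgroup.normal_iInf_normal fun E => Subgroup.normal_iInf_normal fun hE => by
        have := hE.1; infer_instance
    infer_instance
  let K : ℕ → Subgroup H := fun k => Nat.rec (motive := fun _ => Subgroup H) D (fun _ (B : Subgroup H) => (⁅B, B⁆ : Subgroup H)) k
  have hKn : ∀ k, (K k).Normal := fun k => by
    induction k with
    | zero => exact hDn
    | succ k ih => show (⁅K k, K k⁆).Normal; infer_instance
  have hKle : ∀ k, K k ≤ derivedSeries H k := fun k => by
    induction k with
    | zero => exact le_top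
    | succ k ih => exact Subgroup.commutator_mono ih ih
  have hKD : ∀ k, K k ≤ D := fun k => by
    induction k with
    | zero => exact le_rfl
    | succ k ih =>
      have := hKn k
      exact le_trans (Subgroup.commutator_le_left _ _) ih
  obtain ⟨M, hM⟩ := (Group.isSolvable_def H).1 hsol
  have hex : ∃ k, K k ≤ A := ⟨M, fun x hx => by
    have := hKle M hx
    rw [hM, Subgroup.mem_bot] at this
    rw [this]; exact A.one_mem⟩
  have h0 : Nat.find hex ≠ 0 := fun h => by
    have := Nat.find_spec hex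
    rw [h] at this
    exact hgnA (this hgD)
  obtain ⟨k, hk⟩ := Nat.exists_eq_succ_of_ne_zero h0
  have hkA : ¬ K k ≤ A := Nat.find_min hex (m := k) (by omega)
  have hk1 : ⁅K k, K k⁆ ≤ A := by
    have h' : K (Nat.find hex) ≤ A := Nat.find_spec hex
    rw [hk] at h'; exact h'
  have hKkn := hKn k
  let E := A ⊔ K k
  have hEn : E.Normal := Subgroup.sup_normal A (K k)
  have hED : E ≤ D := sup_le (fun a ha => Subgroup.mem_inf.2
    ⟨Subgroup.mem_centralizer_iff.2 fun b hb => hAmax.1.2 b hb a ha,
    by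
      simp only [Subgroup.mem_iInf]
      rintro E' ⟨-, -, hE', -⟩
      exact Subgroup.mem_centralizer_iff.2 fun b hb => ((Subgroup.mem_centralizer_iff.1 (hE' hb)) a ha).symm⟩)
    (hKD k)
  have hE𝔈 : E ∈ 𝔈 := by
    refine ⟨hEn, le_sup_left, le_trans hED inf_le_left, fun x hx y hy => ?_⟩
    obtain ⟨a, ha, b, hb, rfl⟩ := Subgroup.mem_sup_of_normal_left.1 hx
    obtain ⟨a', ha', b', hb', rfl⟩ := Subgroup.mem_sup_of_normal_left.1 hy
    rw [← QuotientGroup.eq_one_iff]
    have e1 : ∀ z ∈ A, (z : H ⧸ A) = 1 := fun z hz => (QuotientGroup.eq_one_iff z).2 hz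
    have e2 : ((⁅b, b'⁆ : H) : H ⧸ A) = 1 := e1 _ (hk1 (Subgroup.commutator_mem_commutator hb hb'))
    simpa [commutatorElement_def, e1 a ha, e1 a' ha'] using e2
  have hEab : ∀ x ∈ E, ∀ y ∈ E, x * y = y * x := fun x hx y hy => by
    have := (Subgroup.mem_inf.1 (hED hy)).2
    simp only [Subgroup.mem_iInf] at this
    exact Subgroup.mem_centralizer_iff.1 (this E hE𝔈) x hx
  exact hkA (le_trans le_sup_right (hAmax.2 (y := E) ⟨hEn, hEab⟩ le_sup_left))

end CfsgLib.PrimitiveSolvable
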